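import Cfsg.Agent.H959.JordanModel
import Cfsg.Agent.ClassicalGeometry.Discriminant
import Cfsg.Agent.ClassicalGeometry.SiegelGen
import Cfsg.Prelude.Def_GeometricClasses

/-!
# Unipotent elements of orthogonal groups of given Jordan type

`exists_unipotent`: for a nondegenerate quadratic form `Q` on `F ^ ι`, `F` finite of odd characteristic `p`, and a
multiset `μ` of sum `|ι|`, with parts at most `p`, even parts of even multiplicity and at least one odd part, there
is an element `x` of `Ω(Q)` with `x ^ p = 1` of Jordan type `μ`.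
-/

set_option autoImplicit false

namespace Cfsg.Agent.H959

open Module QuadraticMap

universe u

section Isometry

variable {F : Type u} [Field F] [Finite F]

/-- Nondegenerate symmetric forms of equal dimension with equal discriminants are isometric. -/
theorem exists_isometry (h2 : (2 : F) ≠ 0) {V₁ V₂ : Type*} [AddCommGroup V₁] [Module F V₁] [FiniteDimensional F V₁]
    [AddCommGroup V₂] [Module F V₂] [FiniteDimensional F V₂]
    (B₁ : LinearMap.BilinForm F V₁) (B₂ : LinearMap.BilinForm F V₂)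
    (hs₁ : ∀ x y, B₁ x y = B₁ y x) (hs₂ : ∀ x y, B₂ x y = B₂ y x)
    (hn₁ : ∀ x, (∀ y, B₁ x y = 0) → x = 0) (hn₂ : ∀ x, (∀ y, B₂ x y = 0) → x = 0)
    {κ₁ κ₂ : Type*} [Fintype κ₁] [DecidableEq κ₁] [Fintype κ₂] [DecidableEq κ₂]
    (b₁ : Basis κ₁ F V₁) (b₂ : Basis κ₂ F V₂) (hcard : finrank F V₁ = finrank F V₂)
    (hsq : IsSquare ((LinearMap.BilinForm.toMatrix b₁ B₁).det * (LinearMap.BilinForm.toMatrix b₂ B₂).det)) :
    ∃ φ : V₁ ≃ₗ[F] V₂, ∀ x y, B₂ (φ x) (φ y) = B₁ x y := by
  have hS₁ : B₁.IsSymm := ⟨hs₁⟩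
  have hS₂ : B₂.IsSymm := ⟨hs₂⟩
  have hN₁ : B₁.Nondegenerate := ⟨hn₁, fun y hy => hn₁ y fun x => by rw [hs₁]; exact hy x⟩
  have hN₂ : B₂.Nondegenerate := ⟨hn₂, fun y hy => hn₂ y fun x => by rw [hs₂]; exact hy x⟩
  have hd₁ := (LinearMap.BilinForm.nondegenerate_iff_det_ne_zero b₁).1 hN₁
  have hd₂ := (LinearMap.BilinForm.nondegenerate_iff_det_ne_zero b₂).1 hN₂
  rcases Nat.eq_zero_or_pos (finrank F V₁) with h0 | hpos
  · have : Subsingleton V₁ := Module.finrank_zero_iff.mp h0
    have : Subsingleton V₂ := Module.finrank_zero_iff.mp (hcard ▸ h0)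
    exact ⟨0, fun x y => by rw [Subsingleton.elim x 0]; simp⟩
  · obtain ⟨n, hn⟩ : ∃ n, finrank F V₁ = n + 1 := ⟨finrank F V₁ - 1, by omega⟩
    set d := (LinearMap.BilinForm.toMatrix b₁ B₁).det with hd
    set c : Fin (n + 1) → F := Fin.cons d (fun _ => 1) with hc
    have hc0 : ∀ i, c i ≠ 0 := by
      intro i
      refine Fin.cases ?_ (fun k => ?_) i
      · simpa [hc] using hd₁
      · simp [hc]
    have hprod : ∏ i, c i = d := by
      rw [Fin.prod_univ_succ]
      simp [hc]
    obtain ⟨v₁, hv₁⟩ := ClassicalGeometry.Discriminant.exists_basis_diag h2 B₁ hS₁ hN₁ b₁ c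
      (by rw [Fintype.card_fin, hn]) hc0 1 (by rw [hprod]; ring)
    obtain ⟨t, ht⟩ := hsq
    obtain ⟨v₂, hv₂⟩ := ClassicalGeometry.Discriminant.exists_basis_diag h2 B₂ hS₂ hN₂ b₂ c
      (by rw [Fintype.card_fin, ← hcard, hn]) hc0 (t / d) (by
        rw [hprod]
        field_simp
        linear_combination ht)
    refine ⟨v₁.equiv v₂ (Equiv.refl _), fun x y => ?_⟩
    have : B₂.compl₁₂ (v₁.equiv v₂ (Equiv.refl _)).toLinearMap (v₁.equiv v₂ (Equiv.refl _)).toLinearMap = B₁ := by
      refine v₁.ext fun i => v₁.ext fun j => ?_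
      rw [LinearMap.compl₁₂_apply]
      simp only [LinearEquiv.coe_coe, Basis.equiv_apply, Equiv.refl_apply]
      rw [hv₁, hv₂]
    rw [← this]
    rfl

/-- Scaling an odd-dimensional summand, one gets every nondegenerate form. -/
theorem exists_scaled_isometry (h2 : (2 : F) ≠ 0) {V₁ V₂ V : Type*} [AddCommGroup V₁] [Module F V₁]
    [FiniteDimensional F V₁] [AddCommGroup V₂] [Module F V₂] [FiniteDimensional F V₂]
    [AddCommGroup V] [Module F V] [FiniteDimensional F V]
    (B₁ : LinearMap.BilinForm F V₁) (B₂ : LinearMap.BilinForm F V₂) (B : LinearMap.BilinForm F V)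
    (hs₁ : ∀ x y, B₁ x y = B₁ y x) (hs₂ : ∀ x y, B₂ x y = B₂ y x) (hs : ∀ x y, B x y = B y x)
    (hn₁ : ∀ x, (∀ y, B₁ x y = 0) → x = 0) (hn₂ : ∀ x, (∀ y, B₂ x y = 0) → x = 0)
    (hn : ∀ x, (∀ y, B x y = 0) → x = 0)
    (hodd : Odd (finrank F V₁)) (hcard : finrank F V₁ + finrank F V₂ = finrank F V) :
    ∃ c : F, c ≠ 0 ∧ ∃ φ : (V₁ × V₂) ≃ₗ[F] V, ∀ x y, B (φ x) (φ y) = sumForm (c • B₁) B₂ x y := by
  classical
  let b₁ := finBasis F V₁
  let b₂ := finBasis F V₂
  let b := finBasis F V
  have hN₁ : B₁.Nondegenerate := ⟨hn₁, fun y hy => hn₁ y fun x => by rw [hs₁]; exact hy x⟩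
  have hN₂ : B₂.Nondegenerate := ⟨hn₂, fun y hy => hn₂ y fun x => by rw [hs₂]; exact hy x⟩
  have hN : B.Nondegenerate := ⟨hn, fun y hy => hn y fun x => by rw [hs]; exact hy x⟩
  have hd₁ := (LinearMap.BilinForm.nondegenerate_iff_det_ne_zero b₁).1 hN₁
  have hd₂ := (LinearMap.BilinForm.nondegenerate_iff_det_ne_zero b₂).1 hN₂
  have hd := (LinearMap.BilinForm.nondegenerate_iff_det_ne_zero b).1 hN
  set d₁ := (LinearMap.BilinForm.toMatrix b₁ B₁).det with hd₁'
  set d₂ := (LinearMap.BilinForm.toMatrix b₂ B₂).det with hd₂'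
  set d := (LinearMap.BilinForm.toMatrix b B).det with hd'
  set c : F := d₁ * d₂ * d with hc
  have hc0 : c ≠ 0 := mul_ne_zero (mul_ne_zero hd₁ hd₂) hd
  have hdet : (LinearMap.BilinForm.toMatrix (b₁.prod b₂) (sumForm (c • B₁) B₂)).det =
      c ^ (finrank F V₁) * d₁ * d₂ := by
    have : LinearMap.BilinForm.toMatrix (b₁.prod b₂) (sumForm (c • B₁) B₂) =
        Matrix.fromBlocks (c • LinearMap.BilinForm.toMatrix b₁ B₁) 0 0 (LinearMap.BilinForm.toMatrix b₂ B₂) := by
      ext i j
      rw [LinearMap.BilinForm.toMatrix_apply, sumForm_apply]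
      rcases i with i | i <;> rcases j with j | j <;> simp [LinearMap.BilinForm.toMatrix_apply]
    rw [this, Matrix.det_fromBlocks_zero₁₂, Matrix.det_smul, Fintype.card_fin]
  obtain ⟨k, hk⟩ := hodd
  obtain ⟨φ, hφ⟩ := exists_isometry h2 (sumForm (c • B₁) B₂) B
    (fun x y => by
      rw [sumForm_apply, sumForm_apply, hs₂]
      simp only [LinearMap.smul_apply]
      rw [hs₁])
    hs
    (by
      intro x hx
      apply Prod.ext
      · apply hn₁
        intro y
        have := hx (y, 0)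
        rw [sumForm_apply] at this
        simp only [LinearMap.smul_apply, map_zero, add_zero, smul_eq_mul] at this
        exact (mul_eq_zero.mp this).resolve_left hc0
      · apply hn₂
        intro y
        have := hx (0, y)
        rw [sumForm_apply] at this
        simpa using this)
    hn (b₁.prod b₂) b (by rw [Module.finrank_prod, hcard]) (by
      rw [hdet, hk]
      exact ⟨c ^ k * c, by rw [← hd', hc]; ring⟩)
  exact ⟨c, hc0, φ, hφ⟩

end Isometry

section Cayley

variable {F : Type u} [Field F] {V : Type*} [AddCommGroup V] [Module F V]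

theorem hasType_conj {V' : Type*} [AddCommGroup V'] [Module F V'] (φ : V ≃ₗ[F] V') {N : Module.End F V}
    {μ : Multiset ℕ} (h : HasType N μ) : HasType (φ.conj N) μ := by
  intro j
  rw [← h j]
  have h1 : (φ.conj N) ^ j = φ.conj (N ^ j) := by
    induction j with
    | zero => ext x; simp
    | succ j ih => rw [pow_succ, ih, pow_succ]; ext x; simp
  rw [h1]
  have h3 : LinearMap.range (φ.conj (N ^ j)) = (LinearMap.range (N ^ j)).map (φ : V →ₗ[F] V') := by
    ext y
    constructor
    · rintro ⟨x, rfl⟩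
      exact ⟨_, ⟨φ.symm x, rfl⟩, rfl⟩
    · rintro ⟨_, ⟨x, rfl⟩, rfl⟩
      exact ⟨φ x, by simp⟩
  rw [h3]
  exact LinearEquiv.finrank_map_eq φ _

/-- The Cayley transform of a nilpotent skew-adjoint endomorphism. -/
theorem cayley [FiniteDimensional F V] (h2 : (2 : F) ≠ 0) (p : ℕ) [hp : Fact p.Prime] [CharP F p] (hodd : Odd p)
    (B : LinearMap.BilinForm F V) (N : Module.End F V) (hN : ∀ x y, B (N x) y = - B x (N y)) (hNp : N ^ p = 0) :
    ∃ T : (Module.End F V)ˣ, T ^ p = 1 ∧ (∀ x y, B ((T : Module.End F V) x) ((T : Module.End F V) y) = B x y) ∧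
      (∀ W : Submodule F V, W.map (T : Module.End F V) ≤ W → W.map N ≤ W) ∧
      ((T : Module.End F V) = 1 → N = 0) := by
  have hnil : IsNilpotent N := ⟨p, hNp⟩
  obtain ⟨u₁, hu₁⟩ := hnil.isUnit_one_add
  obtain ⟨u₂, hu₂⟩ := hnil.isUnit_one_sub
  have hcomm : Commute u₁ u₂ := by
    apply Units.ext
    rw [Units.val_mul, Units.val_mul, hu₁, hu₂]
    noncomm_ring
  have hp0 : (p : Module.End F V) = 0 := by
    rw [← map_natCast (algebraMap F (Module.End F V)) p, CharP.cast_eq_zero, map_zero]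
  have hpow : ∀ M : Module.End F V, M ^ p = 0 → (1 + M) ^ p = 1 := by
    intro M hM
    obtain ⟨r, hr⟩ := (Commute.one_left M).exists_add_pow_prime_eq hp.out
    rw [hr, hM, hp0]
    simp
  have hu₁p : u₁ ^ p = 1 := by
    apply Units.ext
    rw [Units.val_pow_eq_pow_val, hu₁, hpow N hNp]
    rfl
  have hu₂p : u₂ ^ p = 1 := by
    apply Units.ext
    rw [Units.val_pow_eq_pow_val, hu₂, sub_eq_add_neg, hpow (-N) (by rw [hodd.neg_pow, hNp, neg_zero])]
    rfl
  -- `T (1 - N) = 1 + N`
  set T := u₁ * u₂⁻¹ with hT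
  have hTN : (T : Module.End F V) * (1 - N) = 1 + N := by
    rw [← hu₂, ← hu₁, ← Units.val_mul, hT, inv_mul_cancel_right]
  have hTN' : ∀ x, (T : Module.End F V) (x - N x) = x + N x := by
    intro x
    have := congrArg (fun f : Module.End F V => f x) hTN
    simpa using this
  have hNT : (1 - N) * (T : Module.End F V) = 1 + N := by
    rw [← hu₂, ← hu₁, ← Units.val_mul, hT, ← mul_assoc, ← hcomm.eq, mul_assoc, mul_inv_cancel, mul_one]
  have hNT' : ∀ x, (T : Module.End F V) x - N ((T : Module.End F V) x) = x + N x := by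
    intro x
    have := congrArg (fun f : Module.End F V => f x) hNT
    simpa using this
  have hsurj : ∀ x : V, ∃ y, y - N y = x := by
    intro x
    refine ⟨((u₂⁻¹ : (Module.End F V)ˣ) : Module.End F V) x, ?_⟩
    have h1 : (u₂ : Module.End F V) * ((u₂⁻¹ : (Module.End F V)ˣ) : Module.End F V) = 1 := by
      rw [← Units.val_mul, mul_inv_cancel]; rfl
    have h3 := congrArg (fun f : Module.End F V => f x) h1
    rw [hu₂] at h3
    simpa using h3
  refine ⟨T, ?_, ?_, ?_, ?_⟩
  · rw [hT, (hcomm.inv_right).mul_pow, inv_pow, hu₁p, hu₂p]; simp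
  · intro x y
    obtain ⟨x', rfl⟩ := hsurj x
    obtain ⟨y', rfl⟩ := hsurj y
    rw [hTN', hTN']
    simp only [map_add, map_sub, LinearMap.add_apply, LinearMap.sub_apply]
    rw [hN x' y']; ring
  · intro W hW
    rintro _ ⟨w, hw, rfl⟩
    -- `T + 1` is injective on `W`
    have hmaps : W.map ((T : Module.End F V) + 1) ≤ W := by
      rintro _ ⟨v, hv, rfl⟩
      exact W.add_mem (hW ⟨v, hv, rfl⟩) hv
    have hinj : Function.Injective (((T : Module.End F V) + 1 : Module.End F V) : V → V) := by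
      rw [injective_iff_map_eq_zero]
      intro v hv
      have h1 : (T : Module.End F V) v = -v := eq_neg_of_add_eq_zero_left (by simpa using hv)
      have h3 := hNT' v
      rw [h1, map_neg, sub_neg_eq_add] at h3
      have h4 : (2 : F) • v = 0 := by
        rw [two_smul]
        have : -v + N v = v + N v := h3
        have h5 : -v = v := add_right_cancel this
        rw [← sub_neg_eq_add, h5, sub_self]
      exact (smul_eq_zero.mp h4).resolve_left h2
    have heq : W.map ((T : Module.End F V) + 1) = W := by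
      apply Submodule.eq_of_le_of_finrank_eq hmaps
      exact (Submodule.equivMapOfInjective _ hinj W).finrank_eq.symm
    have hw' := hw
    rw [SetLike.mem_coe, ← heq] at hw'
    obtain ⟨v, hv, hvw⟩ := hw'
    have h1 : (T : Module.End F V) v + v = w := by simpa using hvw
    -- `(1 - N) w = 2 v`
    have h3 : w - N w = (2 : F) • v := by
      rw [← h1, map_add, two_smul]
      have := hNT' v
      calc (T : Module.End F V) v + v - (N ((T : Module.End F V) v) + N v)
          = ((T : Module.End F V) v - N ((T : Module.End F V) v)) + v - N v := by abel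
        _ = v + v := by rw [this]; abel
    have h4 : N w = w - (2 : F) • v := by rw [← h3]; abel
    rw [h4]
    exact W.sub_mem hw (W.smul_mem _ hv)
  · intro h1
    ext x
    have h3 := hTN' x
    rw [h1] at h3
    have h4 : x - N x = x + N x := by simpa using h3
    have h5 : (2 : F) • N x = 0 := by
      rw [two_smul]
      have : -(N x) = N x := by
        rw [sub_eq_add_neg] at h4
        exact add_left_cancel h4
      rw [← sub_neg_eq_add, this, sub_self]
    simpa using (smul_eq_zero.mp h5).resolve_left h2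

end Cayley

section Unipotent

open scoped MatrixGroups

variable {ι : Type} [Fintype ι] [DecidableEq ι] {F : Type u} [Field F] [Finite F]

omit [Finite F] in
theorem toLin'_symm (T : (Module.End F (ι → F))ˣ) :
    Matrix.toLin' (((Matrix.GeneralLinearGroup.toLin (n := ι) (R := F)).symm T : GL ι F) : Matrix ι ι F) =
      (T : Module.End F (ι → F)) := by
  have h := Matrix.GeneralLinearGroup.coe_toLin ((Matrix.GeneralLinearGroup.toLin (n := ι) (R := F)).symm T)
  rw [MulEquiv.apply_symm_apply] at h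
  rw [Matrix.toLin'_apply']
  exact h.symm

omit [Finite F] in
/-- Elements of odd order of the isometry group lie in `Ω`. -/
theorem mem_omegaGL_of_pow (h2 : (2 : F) ≠ 0) (Q : QuadraticForm F (ι → F)) (hQ : (polarBilin Q).Nondegenerate)
    (x : GL ι F) (hx : ∀ v, Q ((x : Matrix ι ι F).mulVec v) = Q v) (n : ℕ) (hn : Odd n) (hxn : x ^ n = 1) :
    x ∈ Cfsg.Geo.omegaGL (⇑Q) := by
  let g : Cfsg.isometryGroup F (⇑Q) := ⟨x, fun u _ => hx u⟩
  have hgn : g ^ n = 1 := Subtype.ext hxn
  obtain ⟨k, rfl⟩ := hn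
  have hg : g = g ^ (k + 1) * g ^ (k + 1) := by
    rw [← pow_add, show k + 1 + (k + 1) = (2 * k + 1) + 1 by ring, pow_succ, hgn, one_mul]
  have hmem : g ∈ commutator (Cfsg.isometryGroup F (⇑Q)) := by
    rw [hg]
    exact ClassicalGeometry.SiegelGen.mul_self_mem_commutator h2 Q hQ _
  exact ⟨g, hmem, rfl⟩

/-- **Unipotent elements of `Ω(Q)` of given Jordan type.** -/
theorem exists_unipotent (h2 : (2 : F) ≠ 0) (p : ℕ) [hp : Fact p.Prime] [CharP F p] (hodd : Odd p)
    (Q : QuadraticForm F (ι → F)) (hQ : (polarBilin Q).Nondegenerate) (μ : Multiset ℕ)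
    (hle : ∀ e ∈ μ, 0 < e ∧ e ≤ p) (heven : ∀ e : ℕ, Even e → Even (μ.count e)) (hoddpart : ∃ e ∈ μ, Odd e)
    (hsum : μ.sum = Fintype.card ι) :
    ∃ (x : GL ι F) (N : Module.End F (ι → F)), x ∈ Cfsg.Geo.omegaGL (⇑Q) ∧ x ^ p = 1 ∧ (x = 1 → N = 0) ∧
      HasType N μ ∧ (∀ u v, polarBilin Q (N u) v = - polarBilin Q u (N v)) ∧
      ∀ W : Submodule F (ι → F), W.map (Matrix.toLin' (x : Matrix ι ι F)) ≤ W → W.map N ≤ W := by
  obtain ⟨e, he, heo⟩ := hoddpart
  obtain ⟨n, rfl⟩ : ∃ n, e = n + 1 := ⟨e - 1, by have := (hle e he).1; omega⟩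
  have hn : Even n := by
    rcases Nat.even_or_odd n with h | h
    · exact h
    · exact absurd h.add_one (Nat.not_even_iff_odd.mpr heo)
  obtain ⟨μ', rfl⟩ := Multiset.le_iff_exists_add.mp (Multiset.singleton_le.mpr he)
  have h₁ := isModel_odd (F := F) n hn
  obtain ⟨V, i1, i2, i3, B₂, N₂, h₂⟩ := exists_model (F := F) μ'
    (fun e he => (hle e (Multiset.mem_add.mpr (Or.inr he))).1)
    (fun e he => by
      have h1 := heven e he
      rw [Multiset.count_add, Multiset.count_singleton, if_neg] at h1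
      · simpa using h1
      · rintro rfl
        exact Nat.not_even_iff_odd.mpr heo he)
  have hV : finrank F V = μ'.sum := by
    have := h₂.type 0
    rw [pow_zero, Module.End.one_eq_id, LinearMap.range_id, finrank_top] at this
    rw [this]
    simp
  have hs : ∀ x y, polarBilin Q x y = polarBilin Q y x := fun x y => by
    simp only [polarBilin_apply_apply]
    exact polar_comm (⇑Q) x y
  obtain ⟨c, hc, φ, hφ⟩ := exists_scaled_isometry h2 (altForm n) B₂ (polarBilin Q) h₁.symm h₂.symm hs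
    h₁.nondeg h₂.nondeg hQ.1 (by rw [Module.finrank_fin_fun]; exact heo) (by
      rw [Module.finrank_fin_fun, hV, Module.finrank_fintype_fun_eq_card, ← hsum, Multiset.sum_add,
        Multiset.sum_singleton])
  have h := isModel_prod (isModel_smul h₁ hc) h₂
  set N₀ : Module.End F ((Fin (n + 1) → F) × V) := LinearMap.prodMap (shift n) N₂ with hN₀
  set N : Module.End F (ι → F) := φ.conj N₀ with hN
  have hNt : HasType N ({n + 1} + μ') := hasType_conj φ h.type
  have hNs : ∀ u v, polarBilin Q (N u) v = - polarBilin Q u (N v) := by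
    intro u v
    have e1 : N u = φ (N₀ (φ.symm u)) := rfl
    have e2 : N v = φ (N₀ (φ.symm v)) := rfl
    obtain ⟨u, rfl⟩ := φ.surjective u
    obtain ⟨v, rfl⟩ := φ.surjective v
    rw [e1, e2, hφ, hφ, LinearEquiv.symm_apply_apply, LinearEquiv.symm_apply_apply]
    exact h.skew _ _
  have hNp : N ^ p = 0 := by
    have h1 := hNt p
    have h3 : (Multiset.map (fun e => e - p) ({n + 1} + μ')).sum = 0 := by
      rw [Multiset.sum_eq_zero_iff]
      intro y hy
      obtain ⟨e, he, rfl⟩ := Multiset.mem_map.mp hy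
      have := (hle e he).2
      omega
    rw [h3, Submodule.finrank_eq_zero] at h1
    exact LinearMap.range_eq_bot.mp h1
  obtain ⟨T, hTp, hTB, hTW, hT1⟩ := cayley h2 p hodd (polarBilin Q) N hNs hNp
  set x : GL ι F := (Matrix.GeneralLinearGroup.toLin (n := ι) (R := F)).symm T with hx
  have hxT : Matrix.toLin' (x : Matrix ι ι F) = (T : Module.End F (ι → F)) := toLin'_symm T
  have hxp : x ^ p = 1 := by rw [hx, ← map_pow, hTp, map_one]
  refine ⟨x, N, ?_, hxp, ?_, hNt, hNs, ?_⟩
  · refine mem_omegaGL_of_pow h2 Q hQ x ?_ p hodd hxp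
    intro v
    have h1 := hTB v v
    rw [← hxT] at h1
    simp only [Matrix.toLin'_apply, polarBilin_apply_apply, polar_self] at h1
    have h3 : (2 : F) * Q ((x : Matrix ι ι F).mulVec v) = 2 * Q v := by simpa using h1
    exact mul_left_cancel₀ h2 h3
  · intro h1
    apply hT1
    rw [← hxT, h1]
    simp
    rfl
  · intro W hW
    rw [hxT] at hW
    exact hTW W hW

end Unipotent

end Cfsg.Agent.H959
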